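import Mathlib

/-!
# `Pic R → Pic (R/I)` is surjective for reduced one-dimensional Noetherian rings
-/

set_option autoImplicit false

universe u

open TensorProduct

namespace Groth.Agent.Pic6

/-- An ideal with trace ideal the unit ideal is invertible. -/
theorem invertible_of_trace {R : Type*} [CommRing R] (M : Ideal R)
    (h : Function.Surjective (contractLeft R M)) : Module.Invertible R M := by
  have e1 : ∀ (G : Module.Dual R M) (a b : M), G b • a = G a • b := by
    intro G a b
    apply Subtype.ext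
    show G b * (a : R) = G a * (b : R)
    have h1 : G ((a : R) • b) = G ((b : R) • a) := by
      congr 1
      exact Subtype.ext (mul_comm _ _)
    rw [map_smul, map_smul, smul_eq_mul, smul_eq_mul] at h1
    linear_combination h1
  have e2 : ∀ (F G : Module.Dual R M) (a : M), F a • G = G a • F := by
    intro F G a
    ext z
    rw [LinearMap.smul_apply, LinearMap.smul_apply]
    calc F a • G z = F (G z • a) := by rw [map_smul, smul_eq_mul, smul_eq_mul, mul_comm]
      _ = F (G a • z) := by rw [e1]
      _ = G a • F z := by rw [map_smul]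
  have key : ∀ w z : Module.Dual R M ⊗[R] M,
      contractLeft R M w • z = contractLeft R M z • w := by
    intro w z
    induction w using TensorProduct.induction_on with
    | zero => simp
    | add w w' hw hw' => rw [map_add, add_smul, smul_add, hw, hw']
    | tmul G b =>
      induction z using TensorProduct.induction_on with
      | zero => simp
      | add z z' hz hz' => rw [map_add, add_smul, smul_add, hz, hz']
      | tmul F a =>
        rw [contractLeft_apply, contractLeft_apply]
        symm
        calc F a • (G ⊗ₜ[R] b) = (F a • G) ⊗ₜ[R] b := TensorProduct.smul_tmul' _ _ _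
          _ = (G a • F) ⊗ₜ[R] b := by rw [e2]
          _ = F ⊗ₜ[R] (G a • b) := TensorProduct.smul_tmul _ _ _
          _ = F ⊗ₜ[R] (G b • a) := by rw [e1]
          _ = G b • (F ⊗ₜ[R] a) := TensorProduct.tmul_smul _ _ _
  refine ⟨⟨fun x y hxy => ?_, h⟩⟩
  obtain ⟨w, hw⟩ := h 1
  have hx := key w x
  have hy := key w y
  rw [hw, one_smul] at hx hy
  rw [hx, hy, hxy]

/-- An invertible module has a functional whose image avoids finitely many maximal ideals. -/
theorem exists_dual_not_mem {S : Type*} [CommRing S] (L : Type*) [AddCommGroup L] [Module S L]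
    [Module.Invertible S L] (T : Finset (Ideal S)) (hT : ∀ m ∈ T, m.IsMaximal) :
    ∃ ψ : Module.Dual S L, ∀ m ∈ T, ∃ y, ψ y ∉ m := by
  classical
  have h1 : ∀ m ∈ T, ∃ (g : Module.Dual S L) (y : L), g y ∉ m := by
    intro m hm
    by_contra hne
    push Not at hne
    have hall : ∀ w, contractLeft S L w ∈ m := by
      intro w
      induction w using TensorProduct.induction_on with
      | zero => simp
      | tmul g y => simpa using hne g y
      | add w w' hw hw' => rw [map_add]; exact add_mem hw hw'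
    obtain ⟨w, hw⟩ := (Module.Invertible.bijective (R := S) (M := L)).2 1
    exact (hT m hm).ne_top ((Ideal.eq_top_iff_one _).2 (hw ▸ hall w))
  have h2 : ∀ m ∈ T, ∀ m' ∈ T, m' ≠ m → ∃ e, e ∈ m' ∧ e ∉ m := by
    intro m hm m' hm' hne
    exact Set.not_subset.1 fun hle => hne ((hT m' hm').eq_of_le (hT m hm).ne_top hle)
  choose! g y hg using h1
  choose! e he he' using h2
  refine ⟨∑ m ∈ T, (∏ m' ∈ T.erase m, e m m') • g m, fun m hm => ⟨y m, fun hmem => ?_⟩⟩
  simp only [LinearMap.coe_sum, Finset.sum_apply, LinearMap.smul_apply, smul_eq_mul] at hmem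
  rw [← Finset.add_sum_erase _ _ hm] at hmem
  haveI := (hT m hm).isPrime
  have hrest : ∑ k ∈ T.erase m, (∏ m' ∈ T.erase k, e k m') * g k (y m) ∈ m := by
    refine Ideal.sum_mem _ fun k hk => Ideal.mul_mem_right _ _ ?_
    obtain ⟨hkm, hk'⟩ := Finset.mem_erase.1 hk
    exact Ideal.prod_mem _ (Finset.mem_erase.2 ⟨Ne.symm hkm, hm⟩) (he k hk' m hm (Ne.symm hkm))
  rcases Ideal.IsPrime.mem_or_mem inferInstance ((Ideal.add_mem_iff_left _ hrest).1 hmem) with h | h
  · obtain ⟨k, hk, hk'⟩ := (Ideal.IsPrime.prod_mem_iff).1 h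
    obtain ⟨hkm, hk''⟩ := Finset.mem_erase.1 hk
    exact he' m hm k hk'' hkm hk'
  · exact hg m hm h

/-- A functional on an invertible module over a reduced ring which is nonzero at all minimal
primes is injective. -/
theorem dual_injective {S : Type*} [CommRing S] [IsReduced S] {L : Type*} [AddCommGroup L]
    [Module S L] [Module.Invertible S L] (ψ : Module.Dual S L)
    (hψ : ∀ Q ∈ minimalPrimes S, ∃ y, ψ y ∉ Q) : Function.Injective ψ := by
  rw [injective_iff_map_eq_zero]
  intro x hx
  refine (Module.forall_dual_apply_eq_zero_iff S x).1 fun g => ?_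
  have hnil : sInf (minimalPrimes S) = (⊥ : Ideal S) := by
    rw [show (minimalPrimes S) = (⊥ : Ideal S).minimalPrimes from rfl, Ideal.sInf_minimalPrimes,
      ← Ideal.zero_eq_bot, ← nilradical, nilradical_eq_zero]
  rw [← Submodule.mem_bot S, ← hnil, Ideal.mem_sInf]
  intro Q hQ
  haveI : Q.IsPrime := hQ.1.1
  obtain ⟨y, hy⟩ := hψ Q hQ
  obtain ⟨r, hr⟩ := (Module.Invertible.toModuleEnd_bijective S L).2 (ψ.smulRight y)
  have hrz : ∀ z, r • z = ψ z • y := fun z => LinearMap.congr_fun hr z
  have hrQ : r ∉ Q := by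
    intro hr'
    have h1 := congrArg ψ (hrz y)
    rw [map_smul, map_smul, smul_eq_mul, smul_eq_mul] at h1
    rcases Ideal.IsPrime.mem_or_mem ‹Q.IsPrime› (h1 ▸ Q.mul_mem_right (ψ y) hr' : ψ y * ψ y ∈ Q)
      with h | h <;> exact hy h
  have h2 := congrArg g (hrz x)
  rw [hx, zero_smul, map_zero, map_smul, smul_eq_mul] at h2
  exact (Ideal.IsPrime.mem_or_mem ‹Q.IsPrime› (h2 ▸ Q.zero_mem)).resolve_left hrQ

variable {R S : Type u} [CommRing R] [CommRing S] [Algebra R S]

/-- In a reduced Noetherian ring of dimension at most one, a prime containing an ideal and its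
annihilator is maximal. -/
theorem isMaximal_of_le [IsNoetherianRing R] [IsReduced R] [Ring.KrullDimLE 1 R] (I P : Ideal R)
    [P.IsPrime] (h : I ≤ P) (h' : I.annihilator ≤ P) : P.IsMaximal := by
  classical
  refine ((Ring.krullDimLE_one_iff.1 ‹_›) P inferInstance).resolve_left fun hP => ?_
  let s := (minimalPrimes.finite_of_isNoetherianRing R).toFinset.erase P
  have h2 : ∀ Q ∈ s, ∃ t, t ∈ Q ∧ t ∉ P := by
    intro Q hQ
    obtain ⟨hne, hQ'⟩ := Finset.mem_erase.1 hQ
    rw [Set.Finite.mem_toFinset] at hQ'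
    exact Set.not_subset.1 fun hle => hne (le_antisymm hle (hP.2 hQ'.1 hle))
  choose! t ht ht' using h2
  have hT : ∏ Q ∈ s, t Q ∉ P := fun hmem => by
    obtain ⟨Q, hQ, hQ'⟩ := (Ideal.IsPrime.prod_mem_iff).1 hmem
    exact ht' Q hQ hQ'
  refine hT (h' (Submodule.mem_annihilator.2 fun i hi => ?_))
  have hnil : sInf (minimalPrimes R) = (⊥ : Ideal R) := by
    rw [show (minimalPrimes R) = (⊥ : Ideal R).minimalPrimes from rfl, Ideal.sInf_minimalPrimes,
      ← Ideal.zero_eq_bot, ← nilradical, nilradical_eq_zero]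
  rw [smul_eq_mul, ← Submodule.mem_bot R, ← hnil, Ideal.mem_sInf]
  intro Q hQ
  rcases eq_or_ne Q P with rfl | hne
  · exact Q.mul_mem_left _ (h hi)
  · have hQs : Q ∈ s := Finset.mem_erase.2 ⟨hne, (Set.Finite.mem_toFinset _).2 hQ⟩
    exact Q.mul_mem_right _ (Ideal.prod_mem _ hQs (ht Q hQs))

/-- An ideal of a quotient that is invertible and prime to the conductor lifts. -/
theorem exists_lift_ideal (hf : Function.Surjective (algebraMap R S)) {J : Ideal S}
    [Module.Invertible S J] (hJ : J ⊔ (RingHom.ker (algebraMap R S)).annihilator.map (algebraMap R S) = ⊤) :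
    ∃ J' : Ideal R, Module.Invertible R J' ∧ Nonempty (S ⊗[R] J' ≃ₗ[S] J) := by
  set f := algebraMap R S
  obtain ⟨v', hv', c, hc, hvc⟩ := Submodule.mem_sup.1 (hJ ▸ Submodule.mem_top (x := (1 : S)))
  obtain ⟨u, hu, rfl⟩ := (Ideal.mem_map_iff_of_surjective f hf).1 hc
  let J' := J.comap f
  have hv : 1 - u ∈ J' := by
    show f (1 - u) ∈ J
    rw [map_sub, map_one, ← hvc, add_sub_cancel_right]
    exact hv'
  have hwd : ∀ a b, f a = f b → u * a = u * b := by
    intro a b hab
    have := Submodule.mem_annihilator.1 hu (a - b) (by rw [RingHom.mem_ker, map_sub, hab, sub_self])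
    rwa [smul_eq_mul, mul_sub, sub_eq_zero] at this
  let σ := Function.surjInv hf
  have hσ : ∀ s, f (σ s) = s := Function.surjInv_eq hf
  let Λ : S →ₗ[R] R :=
    { toFun := fun s => u * σ s
      map_add' := fun a b => by
        rw [← mul_add]
        exact hwd _ _ (by rw [map_add, hσ, hσ, hσ])
      map_smul' := fun r a => by
        rw [RingHom.id_apply, smul_eq_mul, mul_left_comm]
        exact hwd _ _ (by rw [map_mul, hσ, hσ, Algebra.smul_def]) }
  let fJ : J' →ₗ[R] J :=
    { toFun := fun y => ⟨f y, y.2⟩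
      map_add' := fun a b => Subtype.ext (map_add f (a : R) b)
      map_smul' := fun r a => Subtype.ext (by
        simp [Algebra.smul_def, f]) }
  have hfJ : Function.Surjective fJ := by
    rintro ⟨z, hz⟩
    obtain ⟨a, rfl⟩ := hf z
    exact ⟨⟨a, hz⟩, rfl⟩
  have htr : Function.Surjective (contractLeft R J') := by
    rw [← LinearMap.range_eq_top, Ideal.eq_top_iff_one]
    have h1 : 1 - u ∈ LinearMap.range (contractLeft R J') :=
      ⟨J'.subtype ⊗ₜ ⟨1 - u, hv⟩, by simp⟩
    have h2 : u ∈ LinearMap.range (contractLeft R J') := by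
      have hall : ∀ w : Module.Dual S J ⊗[S] J, Λ (contractLeft S J w) ∈
          LinearMap.range (contractLeft R J') := by
        intro w
        induction w using TensorProduct.induction_on with
        | zero => simp
        | add w w' hw hw' => rw [map_add, map_add]; exact add_mem hw hw'
        | tmul g x =>
          obtain ⟨y, rfl⟩ := hfJ x
          exact ⟨((Λ.comp (g.restrictScalars R)).comp fJ) ⊗ₜ y, by simp⟩
      obtain ⟨w, hw⟩ := (Module.Invertible.bijective (R := S) (M := J)).2 1
      have h3 := hall w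
      rw [hw] at h3
      have h4 : Λ 1 = u := by
        show u * σ 1 = u
        rw [hwd (σ 1) 1 (by rw [hσ, map_one]), mul_one]
      rwa [h4] at h3
    simpa using add_mem h1 h2
  haveI := invertible_of_trace J' htr
  refine ⟨J', this, ⟨LinearEquiv.ofBijective (fJ.liftBaseChange S)
    (Module.Invertible.bijective_of_surjective ?_)⟩⟩
  intro z
  obtain ⟨y, rfl⟩ := hfJ z
  exact ⟨1 ⊗ₜ y, by simp⟩

/-- **Surjectivity of `Pic R → Pic (R/I)`** in dimension one. -/
theorem pic_surjective [IsNoetherianRing R] [IsReduced R] [Ring.KrullDimLE 1 R]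
    [IsReduced S] (hf : Function.Surjective (algebraMap R S)) :
    Function.Surjective (CommRing.Pic.mapAlgebra R S) := by
  classical
  haveI : IsNoetherianRing S := isNoetherianRing_of_surjective R S _ hf
  intro L
  set C : Ideal S := (RingHom.ker (algebraMap R S)).annihilator.map (algebraMap R S)
  have hC : ∀ q : Ideal S, q.IsPrime → C ≤ q → q.IsMaximal := by
    intro q hq hle
    haveI : (q.comap (algebraMap R S)).IsPrime := Ideal.IsPrime.comap _
    haveI hmax := isMaximal_of_le (RingHom.ker (algebraMap R S)) (q.comap (algebraMap R S))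
      (fun a ha => by rw [Ideal.mem_comap, RingHom.mem_ker.1 ha]; exact q.zero_mem)
      (Ideal.map_le_iff_le_comap.1 hle)
    have := Ideal.map_eq_top_or_isMaximal_of_surjective (algebraMap R S) hf hmax
    rw [Ideal.map_comap_of_surjective _ hf] at this
    exact this.resolve_left hq.ne_top
  choose above habove hle' using fun Q : minimalPrimes S => Ideal.exists_le_maximal Q.1 Q.2.1.1.ne_top
  haveI := (minimalPrimes.finite_of_isNoetherianRing S).fintype
  let T : Finset (Ideal S) :=
    (C.finite_minimalPrimes_of_isNoetherianRing (R := S)).toFinset ∪ Finset.univ.image above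
  have hT : ∀ m ∈ T, m.IsMaximal := by
    intro m hm
    rcases Finset.mem_union.1 hm with h | h
    · rw [Set.Finite.mem_toFinset] at h
      exact hC m h.1.1 h.1.2
    · obtain ⟨Q, -, rfl⟩ := Finset.mem_image.1 h
      exact habove Q
  obtain ⟨ψ, hψ⟩ := exists_dual_not_mem (L : Type u) T hT
  have hinj : Function.Injective ψ := dual_injective ψ fun Q hQ => by
    obtain ⟨y, hy⟩ := hψ (above ⟨Q, hQ⟩) (Finset.mem_union_right _ (Finset.mem_image_of_mem _ (Finset.mem_univ _)))
    exact ⟨y, fun h => hy (hle' ⟨Q, hQ⟩ h)⟩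
  let eL : L ≃ₗ[S] LinearMap.range ψ := LinearEquiv.ofInjective ψ hinj
  haveI : Module.Invertible S (LinearMap.range ψ) := Module.Invertible.congr eL
  obtain ⟨J', hJ', ⟨e⟩⟩ := exists_lift_ideal hf (J := LinearMap.range ψ) (by
    by_contra hne
    obtain ⟨m, hm, hle⟩ := Ideal.exists_le_maximal _ hne
    obtain ⟨P, hP, hPm⟩ := Ideal.exists_minimalPrimes_le (le_sup_right.trans hle : C ≤ m)
    have hPmax := hC P hP.1.1 hP.1.2
    have hPT : P ∈ T := Finset.mem_union_left _ ((Set.Finite.mem_toFinset _).2 hP)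
    obtain ⟨y, hy⟩ := hψ P hPT
    refine hy ?_
    rw [hPmax.eq_of_le hm.ne_top hPm]
    exact hle (Ideal.mem_sup_left ⟨y, rfl⟩))
  refine ⟨CommRing.Pic.mk R J', ?_⟩
  rw [CommRing.Pic.mapAlgebra_apply, CommRing.Pic.mk_eq_iff]
  exact ⟨AlgebraTensorModule.congr (LinearEquiv.refl S S) (CommRing.Pic.mk.linearEquiv R J') ≪≫ₗ e
    ≪≫ₗ eL.symm⟩

end Groth.Agent.Pic6
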